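import Groth.Agent.QuotSch.Basic
import Mathlib.RingTheory.Ideal.Operations

/-!
# Affineness of quotients by finite groups

An open of a quotient by a finite group is affine as soon as its preimage is affine.
-/

set_option backward.isDefEq.respectTransparency.types false

universe u

open AlgebraicGeometry CategoryTheory CategoryTheory.Limits

namespace Groth.Agent.QuotSch

theorem exists_mem_basicOpen {X : Scheme.{u}} {V : X.Opens} (hV : IsAffineOpen V) (O : X.Opens)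
    (S : Finset X) (hS : ∀ x ∈ S, x ∈ V ∧ x ∈ O) :
    ∃ b : Γ(X, V), (∀ x ∈ S, x ∈ X.basicOpen b) ∧ X.basicOpen b ≤ O := by
  classical
  let C : Set (PrimeSpectrum Γ(X, V)) := (hV.fromSpec ⁻¹' (O : Set X))ᶜ
  let I := PrimeSpectrum.vanishingIdeal C
  have hC : IsClosed C := (O.isOpen.preimage hV.fromSpec.continuous).isClosed_compl
  let P : X → Ideal Γ(X, V) := fun x => if h : x ∈ V then (hV.primeIdealOf ⟨x, h⟩).asIdeal else ⊤
  have hP : ∀ x ∈ S, (P x).IsPrime ∧ ¬ I ≤ P x := fun x hx => by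
    obtain ⟨hxV, hxO⟩ := hS x hx
    simp only [P, dif_pos hxV]
    refine ⟨(hV.primeIdealOf ⟨x, hxV⟩).isPrime, fun hle => ?_⟩
    have : hV.primeIdealOf ⟨x, hxV⟩ ∈ PrimeSpectrum.zeroLocus (I : Set Γ(X, V)) := hle
    rw [PrimeSpectrum.zeroLocus_vanishingIdeal_eq_closure, hC.closure_eq] at this
    exact this (show hV.fromSpec (hV.primeIdealOf ⟨x, hxV⟩) ∈ O by rwa [hV.fromSpec_primeIdealOf])
  obtain ⟨b, hbI, hb⟩ : ∃ b ∈ I, ∀ x ∈ S, b ∉ P x := by
    by_contra hne
    push Not at hne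
    obtain rfl | ⟨a, ha⟩ := S.eq_empty_or_nonempty
    · exact absurd (hne 0 I.zero_mem) (by simp)
    have : (I : Set Γ(X, V)) ⊆ ⋃ x ∈ (S : Set X), (P x : Set Γ(X, V)) := fun b hb => by
      obtain ⟨x, hx, hx'⟩ := hne b hb
      exact Set.mem_biUnion hx hx'
    obtain ⟨x, hx, hle⟩ := (Ideal.subset_union_prime a a fun i hi _ _ => (hP i hi).1).mp this
    exact (hP x hx).2 hle
  have key : ∀ (x : X) (h : x ∈ V), x ∈ X.basicOpen b ↔ b ∉ (hV.primeIdealOf ⟨x, h⟩).asIdeal := by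
    intro x h
    refine (iff_of_eq (congrArg (fun z => z ∈ X.basicOpen b) (hV.fromSpec_primeIdealOf ⟨x, h⟩).symm)).trans ?_
    exact iff_of_eq (congrArg (fun W : TopologicalSpace.Opens (PrimeSpectrum Γ(X, V)) => hV.primeIdealOf ⟨x, h⟩ ∈ W)
      (hV.fromSpec_preimage_basicOpen b))
  refine ⟨b, fun x hx => ?_, fun x hx => ?_⟩
  · have := hb x hx
    simp only [P, dif_pos (hS x hx).1] at this
    exact (key x _).mpr this
  · have hxV : x ∈ V := X.basicOpen_le b hx
    by_contra hxO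
    refine (key x hxV).mp hx ((PrimeSpectrum.mem_vanishingIdeal _ _).mp hbI _ ?_)
    exact (show ¬ hV.fromSpec (hV.primeIdealOf ⟨x, hxV⟩) ∈ O by rwa [hV.fromSpec_primeIdealOf])

variable {X Y : Scheme.{u}} {G : Type u} [Group G] [Finite G] {ρ : G →* Aut X} {p : X ⟶ Y}

theorem isAffineOpen_of_preimage (hp : SGA1.IsQuot ρ p) (V : Y.Opens) (hV : IsAffineOpen (p ⁻¹ᵁ V)) :
    IsAffineOpen V := by
  classical
  cases nonempty_fintype G
  have key : ∀ y ∈ V, ∃ a : Γ(Y, V), y ∈ Y.basicOpen a ∧ IsAffineOpen (Y.basicOpen a) := by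
    intro y hy
    obtain ⟨V', hV', hyV', hle⟩ := exists_isAffineOpen_mem_and_subset (x := y) hy
    obtain ⟨x, rfl⟩ := surjective hp y
    have horb : ∀ g : G, p ((ρ g).hom x) = p x := fun g => congr($(hp.inv g) x)
    obtain ⟨b, hb, hbO⟩ := exists_mem_basicOpen hV (p ⁻¹ᵁ V') (Finset.univ.image fun g : G => (ρ g).hom x)
      fun z hz => by
        obtain ⟨g, -, rfl⟩ := Finset.mem_image.mp hz
        exact ⟨show p ((ρ g).hom x) ∈ V from (horb g).symm ▸ hy,
          show p ((ρ g).hom x) ∈ V' from (horb g).symm ▸ hyV'⟩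
    let := sectionsAction hp V
    obtain ⟨a, ha⟩ := mem_range_of_act hp V (∏ g : G, g • b) fun g => by
      rw [map_prod]
      exact Fintype.prod_equiv (Equiv.mulLeft g) (fun h => (act hp V g).hom (h • b)) (fun h => h • b)
        fun h => (mul_smul g h b).symm
    have hmem : ∀ z : X, p z ∈ Y.basicOpen a ↔ p z ∈ V ∧ ∀ g : G, (ρ g).hom z ∈ X.basicOpen b := by
      intro z
      rw [show p z ∈ Y.basicOpen a ↔ z ∈ p ⁻¹ᵁ Y.basicOpen a from Iff.rfl, Scheme.preimage_basicOpen, ha]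
      constructor
      · intro hz
        refine ⟨X.basicOpen_le _ hz, fun g => ?_⟩
        rw [Scheme.mem_basicOpen (hx := X.basicOpen_le _ hz), map_prod, IsUnit.prod_univ_iff] at hz
        have h1 : z ∈ X.basicOpen (g⁻¹ • b) := (Scheme.mem_basicOpen'' (X := X) _ z).mpr ⟨_, hz g⁻¹⟩
        change z ∈ X.basicOpen ((act hp V g⁻¹).hom b) at h1
        rw [act, Scheme.basicOpen_appLE] at h1
        have h2 : (ρ g⁻¹⁻¹).hom z ∈ X.basicOpen b := h1.2
        rwa [inv_inv] at h2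
      · rintro ⟨hzV, hz⟩
        refine (Scheme.mem_basicOpen (X := X) _ z hzV).mpr ?_
        rw [map_prod, IsUnit.prod_univ_iff]
        intro g
        rw [← Scheme.mem_basicOpen (X := X) (hx := hzV)]
        change z ∈ X.basicOpen ((act hp V g).hom b)
        rw [act, Scheme.basicOpen_appLE]
        exact ⟨hzV, hz g⁻¹⟩
    have ha' : Y.basicOpen a ≤ V' := fun w hw => by
      obtain ⟨z, rfl⟩ := surjective hp w
      have := hbO (((hmem z).mp hw).2 1)
      rw [Scheme.Hom.mem_preimage] at this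
      rwa [show p ((ρ (1 : G)).hom z) = p z from congr($(hp.inv 1) z)] at this
    refine ⟨a, (hmem x).mpr ⟨hy, fun g => hb _ (Finset.mem_image.mpr ⟨g, Finset.mem_univ _, rfl⟩)⟩, ?_⟩
    have := hV'.basicOpen (Y.presheaf.map (homOfLE hle).op a)
    rwa [Scheme.basicOpen_res, inf_eq_right.mpr ha'] at this
  refine isAffineOpen_of_isAffineOpen_basicOpen V {a | IsAffineOpen (Y.basicOpen a)} ?_ fun _ h => h
  by_contra hne
  obtain ⟨P, hP, hle⟩ := Ideal.exists_le_maximal _ hne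
  obtain ⟨Q, hQ, hQP⟩ := (ring_facts hp V).2.1 P hP.isPrime
  let x := hV.fromSpec ⟨Q, hQ⟩
  have hx : x ∈ p ⁻¹ᵁ V := by rw [← SetLike.mem_coe, ← hV.range_fromSpec]; exact ⟨_, rfl⟩
  obtain ⟨a, hxa, ha⟩ := key (p x) hx
  have h1 : hV.fromSpec ⟨Q, hQ⟩ ∈ X.basicOpen ((p.app V).hom a) := by
    rw [← Scheme.preimage_basicOpen]; exact hxa
  rw [← Scheme.Hom.mem_preimage, hV.fromSpec_preimage_basicOpen] at h1
  exact h1 (show a ∈ Q.comap (p.app V).hom from hQP ▸ hle (Ideal.subset_span ha))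

end Groth.Agent.QuotSch
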