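import Groth.Prelude.Def_SGA1
import Mathlib.RingTheory.Invariant.Basic
import Mathlib.AlgebraicGeometry.Morphisms.Integral

/-!
# Quotients of schemes by finite groups: basic topology

For `SGA1.IsQuot ρ p`: the induced actions on sections, integrality and surjectivity of `p`,
fibres are orbits, `p` is closed and a quotient map.
-/

set_option backward.isDefEq.respectTransparency.types false

universe u

open AlgebraicGeometry CategoryTheory CategoryTheory.Limits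

namespace Groth.Agent.QuotSch

variable {X Y : Scheme.{u}} {G : Type u} [Group G] {ρ : G →* Aut X} {p : X ⟶ Y}

/-- The action of `g` on sections over the preimage of `U`: pull back along `g⁻¹`. -/
noncomputable def act (hp : SGA1.IsQuot ρ p) (U : Y.Opens) (g : G) : Γ(X, p ⁻¹ᵁ U) ⟶ Γ(X, p ⁻¹ᵁ U) :=
  (ρ g⁻¹).hom.appLE _ _ (SGA1.preimage_le_of_inv ρ p hp.inv g⁻¹ U)

theorem appLE_congr_hom {X X' : Scheme.{u}} {f f' : X ⟶ X'} (h : f = f') (U : X'.Opens) (V : X.Opens)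
    (e : V ≤ f ⁻¹ᵁ U) : f.appLE U V e = f'.appLE U V (h ▸ e) := by
  subst h; rfl

theorem act_one (hp : SGA1.IsQuot ρ p) (U : Y.Opens) : act hp U 1 = 𝟙 _ := by
  have e : (ρ (1 : G)⁻¹).hom = 𝟙 X := by simp only [inv_one, map_one]; rfl
  rw [act, appLE_congr_hom e]
  simp only [Scheme.Hom.appLE, Scheme.Hom.id_app]
  exact (Category.id_comp _).trans (X.presheaf.map_id _)

theorem act_mul (hp : SGA1.IsQuot ρ p) (U : Y.Opens) (g h : G) :
    act hp U (g * h) = act hp U h ≫ act hp U g := by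
  have e : (ρ (g * h)⁻¹).hom = (ρ g⁻¹).hom ≫ (ρ h⁻¹).hom := by
    rw [mul_inv_rev, map_mul]; rfl
  rw [act, act, act, appLE_congr_hom e, Scheme.Hom.appLE_comp_appLE]

/-- The semiring action on sections over an invariant open `p ⁻¹ᵁ U`. -/
@[reducible] noncomputable def sectionsAction (hp : SGA1.IsQuot ρ p) (U : Y.Opens) :
    MulSemiringAction G Γ(X, p ⁻¹ᵁ U) where
  smul g s := (act hp U g).hom s
  one_smul s := by
    change (act hp U 1).hom s = s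
    rw [act_one]; rfl
  mul_smul g h s := by
    change (act hp U (g * h)).hom s = (act hp U g).hom ((act hp U h).hom s)
    rw [act_mul]; rfl
  smul_zero g := map_zero (act hp U g).hom
  smul_add g s t := map_add (act hp U g).hom s t
  smul_one g := map_one (act hp U g).hom
  smul_mul g s t := map_mul (act hp U g).hom s t

theorem act_app (hp : SGA1.IsQuot ρ p) (U : Y.Opens) (g : G) (a : Γ(Y, U)) :
    (act hp U g).hom ((p.app U).hom a) = (p.app U).hom a :=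
  ((hp.range_iff U _).mp ⟨a, rfl⟩ g⁻¹)

theorem mem_range_of_act (hp : SGA1.IsQuot ρ p) (U : Y.Opens) (s : Γ(X, p ⁻¹ᵁ U))
    (h : ∀ g : G, (act hp U g).hom s = s) : s ∈ Set.range (p.app U).hom := by
  refine (hp.range_iff U s).mpr fun g => ?_
  have := h g⁻¹
  rw [act, appLE_congr_hom (show (ρ g⁻¹⁻¹).hom = (ρ g).hom by rw [inv_inv])] at this
  exact this

variable [Finite G]

/-- All the ring-theoretic consequences over an affine open. -/
theorem ring_facts (hp : SGA1.IsQuot ρ p) (U : Y.Opens) :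
    (p.app U).hom.IsIntegral ∧
    (∀ P : Ideal Γ(Y, U), P.IsPrime → ∃ Q : Ideal Γ(X, p ⁻¹ᵁ U), Q.IsPrime ∧ Q.comap (p.app U).hom = P) ∧
    (∀ Q Q' : Ideal Γ(X, p ⁻¹ᵁ U), Q.IsPrime → Q'.IsPrime →
      Q.comap (p.app U).hom = Q'.comap (p.app U).hom → ∃ g : G, Q' = Q.comap (act hp U g).hom) := by
  let := sectionsAction hp U
  let := (p.app U).hom.toAlgebra
  have : SMulCommClass G Γ(Y, U) Γ(X, p ⁻¹ᵁ U) := ⟨fun g a s => by
    change (act hp U g).hom ((p.app U).hom a * s) = (p.app U).hom a * (act hp U g).hom s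
    rw [map_mul, act_app]⟩
  have : Algebra.IsInvariant Γ(Y, U) Γ(X, p ⁻¹ᵁ U) G := ⟨fun s h => mem_range_of_act hp U s h⟩
  have hint : Algebra.IsIntegral Γ(Y, U) Γ(X, p ⁻¹ᵁ U) := Algebra.IsInvariant.isIntegral _ _ G
  refine ⟨fun s => hint.isIntegral s, fun P hP => ?_, fun Q Q' hQ hQ' e => ?_⟩
  · have hinj : RingHom.ker (algebraMap Γ(Y, U) Γ(X, p ⁻¹ᵁ U)) ≤ P := by
      exact le_of_eq_of_le ((RingHom.injective_iff_ker_eq_bot _).mp (hp.injective U)) bot_le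
    obtain ⟨Q, -, hQ, hQP⟩ := Ideal.exists_ideal_over_prime_of_isIntegral P
      (⊥ : Ideal Γ(X, p ⁻¹ᵁ U))
      (by rwa [← RingHom.ker_eq_comap_bot])
    exact ⟨Q, hQ, hQP⟩
  · obtain ⟨g, hg⟩ := Algebra.IsInvariant.exists_smul_of_under_eq Γ(Y, U) Γ(X, p ⁻¹ᵁ U) G Q Q' e
    refine ⟨g⁻¹, ?_⟩
    rw [hg]
    exact Ideal.ext fun s => Ideal.mem_pointwise_smul_iff_inv_smul_mem

theorem isIntegralHom (hp : SGA1.IsQuot ρ p) : IsIntegralHom p :=
  { hp.affine with isIntegral_app := fun U _ => (ring_facts hp U).1 }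

theorem surjective (hp : SGA1.IsQuot ρ p) : Function.Surjective p.base := by
  intro y
  obtain ⟨U, hU, hyU, -⟩ := exists_isAffineOpen_mem_and_subset (x := y) (U := ⊤) trivial
  have := hp.affine
  have hV : IsAffineOpen (p ⁻¹ᵁ U) := hU.preimage p
  obtain ⟨Q, hQ, hQP⟩ := (ring_facts hp U).2.1 _ (hU.primeIdealOf ⟨y, hyU⟩).isPrime
  have hx : hV.fromSpec ⟨Q, hQ⟩ ∈ p ⁻¹ᵁ U := by
    rw [← SetLike.mem_coe, ← hV.range_fromSpec]; exact ⟨_, rfl⟩
  refine ⟨hV.fromSpec ⟨Q, hQ⟩, ?_⟩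
  have h1 := IsAffineOpen.comap_primeIdealOf_appLE U hU (p ⁻¹ᵁ U) hV le_rfl hx
  have h2 : hV.primeIdealOf ⟨hV.fromSpec ⟨Q, hQ⟩, hx⟩ = (⟨Q, hQ⟩ : PrimeSpectrum Γ(X, p ⁻¹ᵁ U)) :=
    hV.fromSpec.isOpenEmbedding.injective (hV.fromSpec_primeIdealOf _)
  rw [h2, Scheme.Hom.appLE_eq_app] at h1
  have h3 : hU.primeIdealOf ⟨p (hV.fromSpec ⟨Q, hQ⟩), hx⟩ = hU.primeIdealOf ⟨y, hyU⟩ :=
    h1.symm.trans (PrimeSpectrum.ext hQP)
  have := congrArg hU.fromSpec h3
  rwa [hU.fromSpec_primeIdealOf, hU.fromSpec_primeIdealOf] at this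

theorem map_eq_iff (hp : SGA1.IsQuot ρ p) (x x' : X) :
    p.base x = p.base x' ↔ ∃ g : G, (ρ g).hom.base x = x' := by
  refine ⟨fun e => ?_, ?_⟩
  · obtain ⟨U, hU, hyU, -⟩ := exists_isAffineOpen_mem_and_subset (x := p.base x) (U := ⊤) trivial
    have := hp.affine
    have hV : IsAffineOpen (p ⁻¹ᵁ U) := hU.preimage p
    have hx : x ∈ p ⁻¹ᵁ U := hyU
    have hx' : x' ∈ p ⁻¹ᵁ U := show p.base x' ∈ U from e ▸ hyU
    have h1 := IsAffineOpen.comap_primeIdealOf_appLE U hU (p ⁻¹ᵁ U) hV le_rfl hx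
    have h1' := IsAffineOpen.comap_primeIdealOf_appLE U hU (p ⁻¹ᵁ U) hV le_rfl hx'
    rw [Scheme.Hom.appLE_eq_app] at h1 h1'
    have h2 : hU.primeIdealOf ⟨p x, hx⟩ = hU.primeIdealOf ⟨p x', hx'⟩ :=
      congrArg _ (Subtype.ext e)
    obtain ⟨g, hg⟩ := (ring_facts hp U).2.2 _ _ (hV.primeIdealOf ⟨x, hx⟩).isPrime
      (hV.primeIdealOf ⟨x', hx'⟩).isPrime (congrArg PrimeSpectrum.asIdeal ((h1.trans h2).trans h1'.symm))
    refine ⟨g⁻¹, ?_⟩
    have hgx : x ∈ (ρ g⁻¹).hom ⁻¹ᵁ (p ⁻¹ᵁ U) := SGA1.preimage_le_of_inv ρ p hp.inv g⁻¹ U hx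
    have h3 := IsAffineOpen.comap_primeIdealOf_appLE (p ⁻¹ᵁ U) hV (p ⁻¹ᵁ U) hV
      (SGA1.preimage_le_of_inv ρ p hp.inv g⁻¹ U) hx
    have h4 : hV.primeIdealOf ⟨(ρ g⁻¹).hom x, hgx⟩ = hV.primeIdealOf ⟨x', hx'⟩ :=
      h3.symm.trans (PrimeSpectrum.ext hg.symm)
    have := congrArg hV.fromSpec h4
    rwa [hV.fromSpec_primeIdealOf, hV.fromSpec_primeIdealOf] at this
  · rintro ⟨g, rfl⟩
    exact congr($((hp.inv g).symm) x)

theorem isClosedMap (hp : SGA1.IsQuot ρ p) : IsClosedMap p.base := by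
  have := isIntegralHom hp
  exact p.isClosedMap

theorem isQuotientMap (hp : SGA1.IsQuot ρ p) : Topology.IsQuotientMap p.base :=
  (isClosedMap hp).isQuotientMap p.continuous (surjective hp)

end Groth.Agent.QuotSch
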