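import Groth.Agent.QuotSch.GaloisRing
import Mathlib.LinearAlgebra.Finsupp.LinearCombination
import Mathlib.GroupTheory.GroupAction.Quotient
import Mathlib.GroupTheory.QuotientGroup.Finite
import Mathlib.Data.Fintype.Sigma
import Mathlib.Tactic.LinearCombination
import Mathlib.RingTheory.Spectrum.Maximal.Basic
import Mathlib.Algebra.GroupWithZero.Idempotent

/-!
# Invariants of a finite group whose inertia loci are open and closed

If for each `g` the ideal generated by the `b - g • b` is cut out by an idempotent, then `B` is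
finite projective over the invariants.
-/

universe u

open TensorProduct

namespace Groth.Agent.QuotSch.GaloisRing

variable {A B G : Type u} [CommRing A] [CommRing B] [Algebra A B] [Group G] [MulSemiringAction G B]
  [SMulCommClass G A B]

/-- `ε` is the idempotent of the locus where `g` acts trivially. -/
def IsTrivLocus (g : G) (ε : B) : Prop :=
  (∀ b : B, ε * (b - g • b) = 0) ∧ 1 - ε ∈ Ideal.span (Set.range fun b : B => b - g • b)

theorem IsTrivLocus.idem {g : G} {ε : B} (h : IsTrivLocus g ε) : ε * ε = ε := by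
  have : ε * (1 - ε) = 0 := by
    refine Submodule.span_induction (p := fun x _ => ε * x = 0) ?_ (mul_zero _) ?_ ?_ h.2
    · rintro _ ⟨b, rfl⟩; exact h.1 b
    · intro x y _ _ hx hy; rw [mul_add, hx, hy, add_zero]
    · intro c x _ hx; rw [smul_eq_mul, mul_left_comm, hx, mul_zero]
  rw [mul_sub, mul_one, sub_eq_zero] at this
  exact this.symm

theorem IsTrivLocus.notMem_iff {g : G} {ε : B} (h : IsTrivLocus g ε) (m : Ideal B) [m.IsPrime] :
    ε ∉ m ↔ ∀ b, b - g • b ∈ m := by
  refine ⟨fun he b => ((Ideal.IsPrime.mem_or_mem' (I := m)) ((h.1 b).symm ▸ m.zero_mem)).resolve_left he,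
    fun hb he => ?_⟩
  have : Ideal.span (Set.range fun b : B => b - g • b) ≤ m := Ideal.span_le.mpr (by rintro _ ⟨b, rfl⟩; exact hb b)
  exact Ideal.IsPrime.ne_top ‹_› (m.eq_top_iff_one.mpr (by simpa using m.add_mem (this h.2) he))

/-- The inertia group of a prime. -/
def inertiaOf (m : Ideal B) : Subgroup G where
  carrier := {g | ∀ b, b - g • b ∈ m}
  one_mem' b := by simp
  mul_mem' {g h} hg hh b := by
    have := m.add_mem (hh b) (hg (h • b))
    rwa [sub_add_sub_cancel, ← mul_smul] at this
  inv_mem' {g} hg b := by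
    have := m.neg_mem (hg (g⁻¹ • b))
    rwa [neg_sub, smul_inv_smul] at this

variable [Finite G] [Algebra.IsInvariant A B G]

theorem exists_piece (hinj : Function.Injective (algebraMap A B)) (ε : G → B)
    (hε : ∀ g, IsTrivLocus g (ε g)) (m : Ideal B) [m.IsPrime] :
    ∃ e ∉ m, ∃ (S : Finset (B × B)) (t : B →ₗ[A] A), ∀ u, ∑ i ∈ S, t (i.2 * u) • (e * i.1) = e * u := by
  classical
  cases nonempty_fintype G
  let H : Subgroup G := inertiaOf m
  let f : G → B := fun g => if g ∈ H then ε g else 1 - ε g
  let e := ∏ g, f g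
  have hf : ∀ g, f g * f g = f g := fun g => by
    simp only [f]; split_ifs
    · exact (hε g).idem
    · linear_combination (hε g).idem
  have he : e * e = e := by
    rw [← Finset.prod_mul_distrib]; exact Finset.prod_congr rfl fun g _ => hf g
  have hem : e ∉ m := fun h => by
    obtain ⟨g, -, hg⟩ := (Ideal.IsPrime.prod_mem_iff).mp h
    simp only [f] at hg
    split_ifs at hg with hgH
    · exact ((hε g).notMem_iff m).mpr hgH hg
    · have : ε g ∈ m := by by_contra hn; exact hgH (((hε g).notMem_iff m).mp hn)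
      exact Ideal.IsPrime.ne_top ‹_› (m.eq_top_iff_one.mpr (by simpa using m.add_mem hg this))
  have hdvd : ∀ g, f g ∣ e := fun g => Finset.dvd_prod_of_mem f (Finset.mem_univ g)
  have hH : ∀ h ∈ H, ∀ b, e * (b - h • b) = 0 := fun h hh b => by
    obtain ⟨c, hc⟩ := hdvd h
    simp only [f, if_pos hh] at hc
    rw [hc, mul_right_comm, (hε h).1, zero_mul]
  have hfix : ∀ h ∈ H, h • e = e := fun h hh => by
    have h1 : e * (h • e) = e := by
      have := hH h hh e
      rw [mul_sub, he, sub_eq_zero] at this
      exact this.symm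
    have h2 := congrArg (h • ·) (hH h⁻¹ (H.inv_mem hh) e)
    simp only [MulSemiringAction.smul_mul, smul_sub, smul_inv_smul, smul_zero] at h2
    have h3 : h • e * h • e = h • e := by rw [← MulSemiringAction.smul_mul, he]
    linear_combination h2 - h3 + h1
  have hfix' : ∀ h ∈ H, ∀ b, h • (e * b) = e * b := fun h hh b => by
    rw [MulSemiringAction.smul_mul, hfix h hh]
    linear_combination -(hH h hh b)
  have hcongr : ∀ (w : B ⊗[A] B), ∀ h ∈ H, e * phi A B G w h = e * phi A B G w 1 := fun w h hh => by
    induction w with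
    | zero => simp
    | tmul x y =>
      simp only [phi_tmul, inv_one, one_smul]
      linear_combination -x * hH h⁻¹ (H.inv_mem hh) y
    | add a b ha hb => simp only [map_add, Pi.add_apply, mul_add, ha, hb]
  have key : ∀ r : G, ∃ w : B ⊗[A] B, phi A B G w 1 = e ∧ (r ∉ H → phi A B G w r = 0) := by
    intro r
    by_cases hr : r ∈ H
    · exact ⟨e ⊗ₜ 1, by simp, fun h => absurd hr h⟩
    · let J : Ideal B :=
        { carrier := {b | ∃ w : B ⊗[A] B, phi A B G w 1 = b ∧ phi A B G w r = 0}
          add_mem' := fun ⟨w, h1, h2⟩ ⟨w', h1', h2'⟩ => ⟨w + w', by simp [h1, h1'], by simp [h2, h2']⟩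
          zero_mem' := ⟨0, by simp, by simp⟩
          smul_mem' := fun c _ ⟨w, h1, h2⟩ => ⟨(c ⊗ₜ 1) * w, by simp [h1], by simp [h2]⟩ }
      have hJ : 1 - ε r⁻¹ ∈ J := by
        refine Ideal.span_le.mpr ?_ (hε r⁻¹).2
        rintro _ ⟨b, rfl⟩
        exact ⟨1 ⊗ₜ b - (r⁻¹ • b) ⊗ₜ 1, by simp, by simp⟩
      obtain ⟨c, hc⟩ := hdvd r⁻¹
      have hr' : r⁻¹ ∉ H := fun h => hr (inv_mem_iff.mp h)
      simp only [f, if_neg hr'] at hc
      obtain ⟨w, hw1, hw2⟩ : e ∈ J := hc ▸ J.mul_mem_right c hJ
      exact ⟨w, hw1, fun _ => hw2⟩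
  choose w hw1 hw2 using key
  obtain ⟨S, hS⟩ := TensorProduct.exists_finset (∏ r : G, w r)
  have hz1 : phi A B G (∏ r : G, w r) 1 = e := by
    rw [map_prod, Finset.prod_apply, Finset.prod_congr rfl fun r _ => hw1 r]
    rw [Finset.prod_const]
    obtain ⟨n, hn⟩ : ∃ n, Finset.univ.card (α := G) = n + 1 := ⟨_, (Nat.succ_pred_eq_of_pos Finset.univ_nonempty.card_pos).symm⟩
    exact hn ▸ IsIdempotentElem.pow_succ_eq n he
  have hδ : ∀ r : G, e * ∑ i ∈ S, i.1 * r • i.2 = if r ∈ H then e else 0 := fun r => by
    have h1 : phi A B G (∏ r : G, w r) r⁻¹ = ∑ i ∈ S, i.1 * r • i.2 := by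
      rw [hS, map_sum, Finset.sum_apply]; simp
    rw [← h1]
    split_ifs with hr
    · rw [hcongr _ _ (H.inv_mem hr), hz1, he]
    · rw [map_prod, Finset.prod_apply]
      exact mul_eq_zero_of_right _ (Finset.prod_eq_zero (Finset.mem_univ r⁻¹)
        (hw2 r⁻¹ fun h => hr (inv_mem_iff.mp h)))
  have : Fintype (G ⧸ H) := @Fintype.ofFinite _ (Quotient.finite _)
  let orb : B → G ⧸ H → B := fun b => Quotient.lift (fun r => r • (e * b)) fun r r' hrr' => by
    have h := QuotientGroup.leftRel_apply.mp hrr'
    conv_lhs => rw [← hfix' _ h b, ← mul_smul, mul_inv_cancel_left]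
  have horb : ∀ b (r : G), orb b r = r • (e * b) := fun _ _ => rfl
  have hinv : ∀ b : B, ∃ a : A, algebraMap A B a = ∑ c : G ⧸ H, orb b c := fun b =>
    Algebra.IsInvariant.isInvariant (A := A) (G := G) (∑ c : G ⧸ H, orb b c) fun g => by
      rw [Finset.smul_sum]
      refine Fintype.sum_equiv (MulAction.toPerm g) _ _ fun c => ?_
      induction c using QuotientGroup.induction_on with
      | H r => exact (mul_smul g r _).symm
  choose t ht using hinv
  let T : B →ₗ[A] A :=
    { toFun := t
      map_add' := fun a b => hinj (by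
        simp only [map_add, ht, ← Finset.sum_add_distrib]
        exact Finset.sum_congr rfl fun c _ => by
          induction c using QuotientGroup.induction_on with
          | H r => simp only [horb, mul_add, smul_add])
      map_smul' := fun s b => hinj (by
        simp only [RingHom.id_apply, smul_eq_mul, map_mul, ht, Finset.mul_sum]
        exact Finset.sum_congr rfl fun c _ => by
          induction c using QuotientGroup.induction_on with
          | H r => simp only [horb, Algebra.smul_def, MulSemiringAction.smul_mul, smul_algebraMap]; ring) }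
  refine ⟨e, hem, S, T, fun u => ?_⟩
  have hterm : ∀ i : B × B, T (i.2 * u) • (e * i.1) = ∑ c : G ⧸ H, orb (i.2 * u) c * (e * i.1) := fun i => by
    rw [Algebra.smul_def, show algebraMap A B (T (i.2 * u)) = _ from ht _, Finset.sum_mul]
  simp only [hterm]
  rw [Finset.sum_comm, Finset.sum_eq_single ((1 : G) : G ⧸ H)]
  · have h1 := hδ 1
    rw [if_pos H.one_mem, Finset.mul_sum] at h1
    calc ∑ i ∈ S, orb (i.2 * u) ((1 : G) : G ⧸ H) * (e * i.1)
        = (∑ i ∈ S, e * (i.1 * (1 : G) • i.2)) * (e * u) :=
          by rw [Finset.sum_mul]; exact Finset.sum_congr rfl fun i _ => by rw [horb, one_smul, one_smul]; ring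
      _ = e * u := by rw [h1, ← mul_assoc, he]
  · intro c _ hc
    induction c using QuotientGroup.induction_on with
    | H r =>
      have hr : r ∉ H := fun h => hc (QuotientGroup.eq.mpr (by simpa using H.inv_mem h))
      have h1 := hδ r
      rw [if_neg hr, Finset.mul_sum] at h1
      calc ∑ i ∈ S, orb (i.2 * u) (r : G ⧸ H) * (e * i.1)
          = (∑ i ∈ S, e * (i.1 * r • i.2)) * (r • (e * u)) :=
            by rw [Finset.sum_mul]; exact Finset.sum_congr rfl fun i _ => by
                rw [horb, MulSemiringAction.smul_mul, MulSemiringAction.smul_mul, MulSemiringAction.smul_mul]; ring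
        _ = 0 := by rw [h1, zero_mul]
  · simp

/-- `B` is finite projective over the invariants. -/
theorem projective_of_trivLocus (hinj : Function.Injective (algebraMap A B))
    (hε : ∀ g : G, ∃ ε : B, IsTrivLocus g ε) : Module.Projective A B ∧ Module.Finite A B := by
  classical
  choose ε hε using hε
  choose e hem S t hpiece using fun m : MaximalSpectrum B => exists_piece (A := A) hinj ε hε m.asIdeal
  have htop : Ideal.span (Set.range e) = ⊤ := by
    by_contra hne
    obtain ⟨m, hm, hle⟩ := Ideal.exists_le_maximal _ hne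
    exact hem ⟨m, hm⟩ (hle (Ideal.subset_span ⟨_, rfl⟩))
  obtain ⟨a, ha⟩ := Finsupp.mem_span_range_iff_exists_finsupp.mp
    ((Ideal.eq_top_iff_one _).mp htop : (1 : B) ∈ Submodule.span B (Set.range e))
  let κ := (m : a.support) × (S m.1)
  let f : B →ₗ[A] (κ → A) := LinearMap.pi fun k => (t k.1.1).comp (LinearMap.mulLeft A k.2.1.2)
  let s : (κ → A) →ₗ[A] B := ∑ k : κ, (LinearMap.proj k).smulRight (a k.1.1 * (e k.1.1 * k.2.1.1))
  have hsf : s.comp f = LinearMap.id := LinearMap.ext fun v => by
    simp only [s, f, LinearMap.comp_apply, LinearMap.sum_apply, LinearMap.smulRight_apply,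
      LinearMap.proj_apply, LinearMap.pi_apply, LinearMap.mulLeft_apply, LinearMap.id_apply]
    rw [Fintype.sum_sigma]
    calc ∑ m : a.support, ∑ i : S m.1, t m.1 (i.1.2 * v) • (a m.1 * (e m.1 * i.1.1))
        = ∑ m : a.support, a m.1 * e m.1 * v := Finset.sum_congr rfl fun m _ => by
          rw [Finset.sum_coe_sort (S m.1) fun i : B × B => t m.1 (i.2 * v) • (a m.1 * (e m.1 * i.1)), mul_assoc,
            ← hpiece m.1 v, Finset.mul_sum]
          exact Finset.sum_congr rfl fun i _ => (mul_smul_comm _ _ _).symm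
      _ = v := by
        rw [Finset.sum_coe_sort a.support fun m => a m * e m * v, ← Finset.sum_mul]
        simp only [smul_eq_mul, Finsupp.sum] at ha
        rw [ha, one_mul]
  exact ⟨Module.Projective.of_split f s hsf, Module.Finite.of_surjective s fun v => ⟨f v, LinearMap.congr_fun hsf v⟩⟩

end Groth.Agent.QuotSch.GaloisRing
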