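import Groth.Agent.QuotSch.Basic
import Groth.Agent.QuotSch.InertiaRing
import Groth.Agent.AlgSpc.EtSourceRing
import Groth.Agent.Unram.Descent
import Mathlib.AlgebraicGeometry.Morphisms.Etale
import Mathlib.RingTheory.Unramified.Finite
import Mathlib.RingTheory.Smooth.Fiber
import Mathlib.RingTheory.Finiteness.ModuleFinitePresentation

/-!
# Quotients of unramified / étale schemes by finite groups

If `X` is unramified and locally of finite type over `Y`, a finite group acts over `Y`, and `p : X ⟶ X'` is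
a quotient, then `p` is finite étale; if moreover `X` is étale over `Y`, so is `X'`.
-/

set_option backward.isDefEq.respectTransparency.types false

universe u

open AlgebraicGeometry CategoryTheory CategoryTheory.Limits TensorProduct

namespace Groth.Agent.QuotSch

theorem GaloisRing.exists_trivLocus {C B G : Type u} [CommRing C] [CommRing B] [Algebra C B] [Group G]
    [MulSemiringAction G B] [SMulCommClass G C B] [Algebra.FiniteType C B] [Algebra.FormallyUnramified C B]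
    (g : G) : ∃ ε : B, GaloisRing.IsTrivLocus g ε := by
  let φ : B ⊗[C] B →ₐ[C] B :=
    Algebra.TensorProduct.lift (AlgHom.id C B) (MulSemiringAction.toAlgHom C B g) fun _ _ => Commute.all _ _
  refine ⟨φ (Algebra.FormallyUnramified.elem C B), fun b => ?_, ?_⟩
  · have h := congrArg φ (Algebra.FormallyUnramified.one_tmul_sub_tmul_one_mul_elem (R := C) b)
    simp only [map_mul, map_sub, map_zero, φ, Algebra.TensorProduct.lift_tmul, map_one, one_mul, mul_one,
      AlgHom.id_apply, MulSemiringAction.toAlgHom_apply] at h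
    linear_combination -h
  · have key : ∀ w : B ⊗[C] B, Algebra.TensorProduct.lmul' C w - φ w ∈
        Ideal.span (Set.range fun b : B => b - g • b) := fun w => by
      induction w with
      | zero => simp
      | tmul x y =>
        have h1 : Algebra.TensorProduct.lmul' C (x ⊗ₜ[C] y) - φ (x ⊗ₜ[C] y) = x * (y - g • y) := by
          simp [φ]; ring
        rw [h1]
        exact Ideal.mul_mem_left _ _ (Ideal.subset_span ⟨y, rfl⟩)
      | add a b ha hb =>
        simp only [map_add]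
        rw [add_sub_add_comm]
        exact Ideal.add_mem _ ha hb
    have := key (Algebra.FormallyUnramified.elem C B)
    rwa [Algebra.FormallyUnramified.lmul_elem] at this

variable {X X' Y : Scheme.{u}} {G : Type u} [Group G] [Finite G] {ρ : G →* Aut X}
  {p : X ⟶ X'} {f : X ⟶ Y} {q : X' ⟶ Y}

theorem app_etale (hp : SGA1.IsQuot ρ p) (hρ : ∀ g, (ρ g).hom ≫ f = f) (hq : p ≫ q = f)
    [FormallyUnramified f] [LocallyOfFiniteType f] {W : Y.Opens} (hW : IsAffineOpen W) {U : X'.Opens}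
    (hU : IsAffineOpen U) (e : U ≤ q ⁻¹ᵁ W) : (p.app U).hom.Etale ∧ (p.app U).hom.Finite := by
  have := hp.affine
  have hV : IsAffineOpen (p ⁻¹ᵁ U) := hU.preimage p
  have e' : p ⁻¹ᵁ U ≤ f ⁻¹ᵁ W := by
    rw [← hq, Scheme.Hom.comp_preimage]; exact Scheme.Hom.preimage_mono _ e
  have hcomp : q.appLE W U e ≫ p.app U = f.appLE W (p ⁻¹ᵁ U) e' := by
    rw [← Scheme.Hom.appLE_eq_app, Scheme.Hom.appLE_comp_appLE]
    exact appLE_congr_hom hq _ _ _
  have hft : (f.appLE W (p ⁻¹ᵁ U) e').hom.FiniteType := f.finiteType_appLE hW hV e'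
  have hu : (f.appLE W (p ⁻¹ᵁ U) e').hom.FormallyUnramified := f.formallyUnramified_appLE hW hV e'
  let := sectionsAction hp U
  algebraize [(q.appLE W U e).hom, (p.app U).hom, (f.appLE W (p ⁻¹ᵁ U) e').hom]
  have : IsScalarTower Γ(Y, W) Γ(X', U) Γ(X, p ⁻¹ᵁ U) :=
    IsScalarTower.of_algebraMap_eq fun t => congr($(hcomp.symm) t)
  have : SMulCommClass G Γ(X', U) Γ(X, p ⁻¹ᵁ U) := ⟨fun g a s => by
    change (act hp U g).hom ((p.app U).hom a * s) = (p.app U).hom a * (act hp U g).hom s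
    rw [map_mul, act_app]⟩
  have : SMulCommClass G Γ(Y, W) Γ(X, p ⁻¹ᵁ U) := ⟨fun g a s => by
    rw [← algebraMap_smul Γ(X', U) a s, ← algebraMap_smul Γ(X', U) a (g • s), smul_comm]⟩
  have : Algebra.IsInvariant Γ(X', U) Γ(X, p ⁻¹ᵁ U) G := ⟨fun s h => mem_range_of_act hp U s h⟩
  have hinj : Function.Injective (algebraMap Γ(X', U) Γ(X, p ⁻¹ᵁ U)) := hp.injective U
  obtain ⟨hproj, hfin⟩ := GaloisRing.projective_of_trivLocus hinj
    fun g : G => GaloisRing.exists_trivLocus (G := G) (B := Γ(X, p ⁻¹ᵁ U)) (C := Γ(Y, W)) g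
  have : Algebra.FormallyUnramified Γ(X', U) Γ(X, p ⁻¹ᵁ U) :=
    Algebra.FormallyUnramified.of_restrictScalars Γ(Y, W) Γ(X', U) Γ(X, p ⁻¹ᵁ U)
  have : Module.FinitePresentation Γ(X', U) Γ(X, p ⁻¹ᵁ U) := Module.finitePresentation_of_projective _ _
  have : Algebra.FinitePresentation Γ(X', U) Γ(X, p ⁻¹ᵁ U) := Algebra.FinitePresentation.of_finitePresentation ..
  exact ⟨Algebra.Etale.of_formallyUnramified_of_flat, hfin⟩

/-- The quotient map of an unramified scheme is étale. -/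
theorem etale_quot (hp : SGA1.IsQuot ρ p) (hρ : ∀ g, (ρ g).hom ≫ f = f) (hq : p ≫ q = f)
    [FormallyUnramified f] [LocallyOfFiniteType f] : Etale p := by
  have := hp.affine
  let I := {UW : X'.affineOpens × Y.affineOpens // UW.1.1 ≤ q ⁻¹ᵁ UW.2.1}
  refine IsZariskiLocalAtSource.of_openCover (P := @Etale)
    (X.openCoverOfIsOpenCover (fun i : I => p ⁻¹ᵁ i.1.1.1) (TopologicalSpace.IsOpenCover.mk ?_))
    fun (i : I) => ?_
  · refine top_le_iff.mp fun x _ => ?_
    obtain ⟨W, hW, hxW, -⟩ := exists_isAffineOpen_mem_and_subset (x := q (p x)) (U := ⊤) trivial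
    obtain ⟨U, hU, hxU, hle⟩ := exists_isAffineOpen_mem_and_subset (x := p x) (U := q ⁻¹ᵁ W) hxW
    exact TopologicalSpace.Opens.mem_iSup.mpr ⟨⟨(⟨U, hU⟩, ⟨W, hW⟩), hle⟩, hxU⟩
  · obtain ⟨⟨⟨U, hU⟩, ⟨W, hW⟩⟩, hle⟩ := i
    have hV : IsAffineOpen (p ⁻¹ᵁ U) := hU.preimage p
    change Etale ((p ⁻¹ᵁ U).ι ≫ p)
    rw [← hV.isoSpec.hom_inv_id_assoc (p ⁻¹ᵁ U).ι, Category.assoc]
    change Etale (hV.isoSpec.hom ≫ hV.fromSpec ≫ p)
    rw [← IsAffineOpen.SpecMap_appLE_fromSpec p hU hV le_rfl, Scheme.Hom.appLE_eq_app]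
    have : Etale (Spec.map (p.app U)) :=
      (HasRingHomProperty.Spec_iff (P := @Etale)).mpr (app_etale hp hρ hq hW hU hle).1
    infer_instance

/-- The quotient of an étale scheme is étale. -/
theorem etale_base (hp : SGA1.IsQuot ρ p) (hρ : ∀ g, (ρ g).hom ≫ f = f) (hq : p ≫ q = f) [Etale f] :
    Etale q := by
  refine ⟨fun {W} hW {U} hU e => ?_⟩
  have := hp.affine
  have hV : IsAffineOpen (p ⁻¹ᵁ U) := hU.preimage p
  have e' : p ⁻¹ᵁ U ≤ f ⁻¹ᵁ W := by
    rw [← hq, Scheme.Hom.comp_preimage]; exact Scheme.Hom.preimage_mono _ e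
  have hcomp : q.appLE W U e ≫ p.app U = f.appLE W (p ⁻¹ᵁ U) e' := by
    rw [← Scheme.Hom.appLE_eq_app, Scheme.Hom.appLE_comp_appLE]
    exact appLE_congr_hom hq _ _ _
  have hfe : (f.appLE W (p ⁻¹ᵁ U) e').hom.Etale := f.etale_appLE hW hV e'
  have hpe := (app_etale hp hρ hq hW hU e).1
  algebraize [(q.appLE W U e).hom, (p.app U).hom, (f.appLE W (p ⁻¹ᵁ U) e').hom]
  have : IsScalarTower Γ(Y, W) Γ(X', U) Γ(X, p ⁻¹ᵁ U) :=
    IsScalarTower.of_algebraMap_eq fun t => congr($(hcomp.symm) t)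
  have : Module.FaithfullyFlat Γ(X', U) Γ(X, p ⁻¹ᵁ U) := by
    refine Module.FaithfullyFlat.of_comap_surjective fun P => ?_
    obtain ⟨Q, hQ, hQP⟩ := (ring_facts hp U).2.1 P.asIdeal P.isPrime
    exact ⟨⟨Q, hQ⟩, PrimeSpectrum.ext hQP⟩
  have : Module.Flat Γ(Y, W) Γ(X', U) := Unram.flat_of_flat_faithfullyFlat Γ(X', U) Γ(X, p ⁻¹ᵁ U)
  have := AlgSpc.formallyUnramified_of_etale_faithfullyFlat Γ(Y, W) Γ(X', U) Γ(X, p ⁻¹ᵁ U)
  have := AlgSpc.finitePresentation_of_etale_faithfullyFlat Γ(Y, W) Γ(X', U) Γ(X, p ⁻¹ᵁ U)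
  exact (RingHom.etale_algebraMap.mpr Algebra.Etale.of_formallyUnramified_of_flat :
    (algebraMap Γ(Y, W) Γ(X', U)).Etale)

end Groth.Agent.QuotSch
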