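import Mathlib.RingTheory.Invariant.Defs
import Mathlib.RingTheory.TensorProduct.Maps
import Mathlib.Algebra.Algebra.Pi
import Mathlib.Algebra.Algebra.Hom
import Mathlib.Algebra.Module.Projective
import Mathlib.LinearAlgebra.FreeModule.Basic
import Mathlib.LinearAlgebra.StdBasis
import Mathlib.RingTheory.Finiteness.Basic
import Mathlib.RingTheory.Ideal.Operations
import Mathlib.RingTheory.TensorProduct.Finite
import Mathlib.LinearAlgebra.TensorProduct.Finiteness

/-!
# Galois extensions of rings (Chase–Harrison–Rosenberg)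

If a finite group acts on `B` with invariants `A` and for each `g ≠ 1` the elements `b - g • b`
generate the unit ideal, then `B` is finite projective over `A` and `B ⊗[A] B ≅ G → B`.
-/

universe u

open TensorProduct

namespace Groth.Agent.QuotSch.GaloisRing

variable {A B G : Type u} [CommRing A] [CommRing B] [Algebra A B] [Group G] [MulSemiringAction G B]
  [SMulCommClass G A B]

variable (A B G) in
/-- `x ⊗ y ↦ (g ↦ x * g⁻¹ • y)`. -/
noncomputable def phi : B ⊗[A] B →ₐ[A] (G → B) :=
  Algebra.TensorProduct.lift (Pi.algHom A _ fun _ : G => AlgHom.id A B)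
    (Pi.algHom A _ fun g : G => MulSemiringAction.toAlgHom A B g⁻¹)
    fun _ _ => Commute.all _ _

@[simp]
theorem phi_tmul (x y : B) (g : G) : phi A B G (x ⊗ₜ y) g = x * g⁻¹ • y := rfl

/-- Freeness: no `g ≠ 1` fixes a point together with its residue field. -/
def IsFree (B G : Type u) [CommRing B] [Group G] [MulSemiringAction G B] : Prop :=
  ∀ g : G, g ≠ 1 → Ideal.span (Set.range fun b : B => b - g • b) = ⊤

theorem exists_single (hfree : IsFree B G) [Finite G] [DecidableEq G] :
    ∃ z : B ⊗[A] B, phi A B G z = Pi.single 1 1 := by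
  cases nonempty_fintype G
  have key : ∀ g : G, g ≠ 1 → ∃ w : B ⊗[A] B, phi A B G w 1 = 1 ∧ phi A B G w g = 0 := by
    intro g hg
    let J : Ideal B :=
      { carrier := {b | ∃ w : B ⊗[A] B, phi A B G w 1 = b ∧ phi A B G w g = 0}
        add_mem' := fun ⟨w, h1, h2⟩ ⟨w', h1', h2'⟩ => ⟨w + w', by simp [h1, h1'], by simp [h2, h2']⟩
        zero_mem' := ⟨0, by simp, by simp⟩
        smul_mem' := fun c _ ⟨w, h1, h2⟩ => ⟨(c ⊗ₜ 1) * w, by simp [h1], by simp [h2]⟩ }
    have hJ : J = ⊤ := by
      rw [eq_top_iff, ← hfree g⁻¹ (inv_ne_one.mpr hg), Ideal.span_le]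
      rintro _ ⟨b, rfl⟩
      exact ⟨1 ⊗ₜ b - (g⁻¹ • b) ⊗ₜ 1, by simp, by simp⟩
    exact (hJ ▸ Submodule.mem_top : (1 : B) ∈ J)
  choose w hw1 hw2 using key
  refine ⟨∏ g : G, if h : g = 1 then 1 else w g h, funext fun k => ?_⟩
  rw [map_prod, Finset.prod_apply]
  by_cases hk : k = 1
  · subst hk
    rw [Pi.single_eq_same]
    exact Finset.prod_eq_one fun g _ => by split_ifs <;> simp [hw1]
  · rw [Pi.single_eq_of_ne hk]
    exact Finset.prod_eq_zero (Finset.mem_univ k) (by rw [dif_neg hk, hw2])

theorem phi_surjective (hfree : IsFree B G) [Finite G] : Function.Surjective (phi A B G) := by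
  classical
  cases nonempty_fintype G
  obtain ⟨z, hz⟩ := exists_single (A := A) hfree
  let T : G → B ⊗[A] B := fun h =>
    Algebra.TensorProduct.map (AlgHom.id A B) (MulSemiringAction.toAlgHom A B h) z
  have hT : ∀ h k, phi A B G (T h) k = phi A B G z (h⁻¹ * k) := by
    intro h k
    refine TensorProduct.induction_on (motive := fun z : B ⊗[A] B =>
      phi A B G (Algebra.TensorProduct.map (AlgHom.id A B) (MulSemiringAction.toAlgHom A B h) z) k =
        phi A B G z (h⁻¹ * k)) z (by simp) (fun x y => ?_) fun a b ha hb => by simp_all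
    simp [mul_smul, mul_inv_rev]
  intro F
  refine ⟨∑ h, (F h ⊗ₜ 1) * T h, funext fun k => ?_⟩
  simp only [map_sum, map_mul, Finset.sum_apply, Pi.mul_apply, phi_tmul, smul_one, mul_one, hT, hz]
  rw [Finset.sum_eq_single k (fun h _ hh => by
    rw [Pi.single_eq_of_ne (fun e => hh (inv_mul_eq_one.mp e)), mul_zero]) (by simp)]
  simp

variable [Finite G] [Algebra.IsInvariant A B G]

variable (A B G) in
theorem exists_trace (hinj : Function.Injective (algebraMap A B)) [Fintype G] :
    ∃ t : B →ₗ[A] A, ∀ b, algebraMap A B (t b) = ∑ g : G, g • b := by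
  have h : ∀ b : B, ∃ a : A, algebraMap A B a = ∑ g : G, g • b := fun b =>
    Algebra.IsInvariant.isInvariant (A := A) (G := G) (∑ g : G, g • b) fun g => by
      rw [Finset.smul_sum]
      exact Fintype.sum_equiv (Equiv.mulLeft g) _ _ fun k => (mul_smul g k b).symm
  choose t ht using h
  refine ⟨{ toFun := t, map_add' := fun a b => hinj ?_, map_smul' := fun r b => hinj ?_ }, ht⟩
  · simp only [map_add, ht, smul_add, Finset.sum_add_distrib]
  · simp only [RingHom.id_apply, smul_eq_mul, map_mul, ht, Finset.mul_sum, Algebra.smul_def,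
      MulSemiringAction.smul_mul, smul_algebraMap]

theorem phi_injective_and_projective (hfree : IsFree B G) (hinj : Function.Injective (algebraMap A B)) :
    Function.Injective (phi A B G) ∧ Module.Projective A B ∧ Module.Finite A B := by
  classical
  cases nonempty_fintype G
  obtain ⟨t, ht⟩ := exists_trace A B G hinj
  obtain ⟨z, hz⟩ := exists_single (A := A) hfree
  obtain ⟨S, rfl⟩ := TensorProduct.exists_finset z
  have hd : ∀ g : G, ∑ i ∈ S, i.1 * g • i.2 = if g = 1 then 1 else 0 := fun g => by
    have := congrFun hz g⁻¹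
    rw [map_sum, Finset.sum_apply] at this
    simpa [Pi.single_apply] using this
  -- dual basis
  have hdb : ∀ v : B, ∑ i ∈ S, t (i.2 * v) • i.1 = v := fun v => by
    calc ∑ i ∈ S, t (i.2 * v) • i.1 = ∑ i ∈ S, ∑ g : G, (g • v) * (i.1 * g • i.2) :=
          Finset.sum_congr rfl fun i _ => by
            rw [Algebra.smul_def, ht, Finset.sum_mul]
            exact Finset.sum_congr rfl fun g _ => by rw [MulSemiringAction.smul_mul]; ring
      _ = ∑ g : G, (g • v) * ∑ i ∈ S, i.1 * g • i.2 := by
            rw [Finset.sum_comm]; simp only [Finset.mul_sum]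
      _ = v := by simp [hd]
  let f : B →ₗ[A] (S → A) := LinearMap.pi fun i => t.comp (LinearMap.mulLeft A i.1.2)
  let s : (S → A) →ₗ[A] B := ∑ i : S, (LinearMap.proj i).smulRight i.1.1
  have hsf : s.comp f = LinearMap.id := LinearMap.ext fun v => by
    simp only [s, f, LinearMap.comp_apply, LinearMap.sum_apply, LinearMap.smulRight_apply,
      LinearMap.proj_apply, LinearMap.pi_apply, LinearMap.mulLeft_apply, LinearMap.id_apply]
    exact (Finset.sum_coe_sort S fun i => t (i.2 * v) • i.1).trans (hdb v)
  refine ⟨(injective_iff_map_eq_zero _).mpr fun w hw => ?_, Module.Projective.of_split f s hsf,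
    Module.Finite.of_surjective s fun v => ⟨f v, LinearMap.congr_fun hsf v⟩⟩
  have key : ∀ w : B ⊗[A] B,
      w = ∑ i ∈ S, (∑ g : G, phi A B G w g⁻¹ * g • i.2) ⊗ₜ[A] i.1 := fun w => by
    induction w with
    | zero => simp
    | tmul u v =>
      conv_lhs => rw [← hdb v, tmul_sum]
      refine Finset.sum_congr rfl fun i _ => ?_
      rw [← TensorProduct.smul_tmul]
      congr 1
      rw [Algebra.smul_def, ht, Finset.sum_mul]
      exact Finset.sum_congr rfl fun g _ => by
        simp only [phi_tmul, inv_inv, MulSemiringAction.smul_mul]; ring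
    | add a b ha hb =>
      conv_lhs => rw [ha, hb]
      simp only [map_add, Pi.add_apply, add_mul, Finset.sum_add_distrib, add_tmul]
  rw [key w]
  simp [hw]

end Groth.Agent.QuotSch.GaloisRing
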