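import Groth.Agent.QuotSch.Basic
import Groth.Agent.QuotSch.GaloisRing
import Mathlib.AlgebraicGeometry.Pullbacks
import Mathlib.AlgebraicGeometry.PullbackCarrier
import Mathlib.AlgebraicGeometry.Morphisms.Flat
import Mathlib.AlgebraicGeometry.Morphisms.Finite
import Mathlib.FieldTheory.IsAlgClosed.AlgebraicClosure

/-!
# Free quotients by finite groups are Galois coverings
-/

set_option backward.isDefEq.respectTransparency.types false

universe u

open AlgebraicGeometry CategoryTheory CategoryTheory.Limits TensorProduct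

namespace Groth.Agent.QuotSch

variable {X Y : Scheme.{u}} {G : Type u} [Group G] [Finite G] {ρ : G →* Aut X} {p : X ⟶ Y}

/-- `G` acts freely on geometric points. -/
def FreeGeom (ρ : G →* Aut X) : Prop :=
  ∀ (K : Type u) [Field K] [IsAlgClosed K] (ξ : Spec (CommRingCat.of K) ⟶ X) (g : G),
    ξ ≫ (ρ g).hom = ξ → g = 1

theorem fromSpec_act (hp : SGA1.IsQuot ρ p) (U : Y.Opens) (hV : IsAffineOpen (p ⁻¹ᵁ U)) (g : G) :
    Spec.map (act hp U g) ≫ hV.fromSpec = hV.fromSpec ≫ (ρ g⁻¹).hom :=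
  IsAffineOpen.SpecMap_appLE_fromSpec _ hV hV _

theorem isFree_sections (hp : SGA1.IsQuot ρ p) (hfree : FreeGeom ρ) (U : Y.Opens)
    (hV : IsAffineOpen (p ⁻¹ᵁ U)) :
    letI := sectionsAction hp U
    GaloisRing.IsFree Γ(X, p ⁻¹ᵁ U) G := by
  let := sectionsAction hp U
  intro g hg
  by_contra hne
  obtain ⟨m, hm, hle⟩ := Ideal.exists_le_maximal _ hne
  let := Ideal.Quotient.field m
  let ι : Γ(X, p ⁻¹ᵁ U) ⟶ CommRingCat.of (AlgebraicClosure (Γ(X, p ⁻¹ᵁ U) ⧸ m)) :=
    CommRingCat.ofHom ((algebraMap _ (AlgebraicClosure (Γ(X, p ⁻¹ᵁ U) ⧸ m))).comp (Ideal.Quotient.mk m))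
  have hι : act hp U g ≫ ι = ι := CommRingCat.hom_ext (RingHom.ext fun b => congrArg (algebraMap _ _)
    (Ideal.Quotient.eq.mpr (hle (Ideal.subset_span ⟨b, rfl⟩))).symm)
  have := hfree _ (Spec.map ι ≫ hV.fromSpec) g⁻¹ (by
    rw [Category.assoc, ← fromSpec_act hp U hV, ← Spec.map_comp_assoc, hι])
  exact hg (inv_eq_one.mp this)

/-- The ring facts over an affine open for a free action. -/
theorem free_ring_facts (hp : SGA1.IsQuot ρ p) (hfree : FreeGeom ρ) (U : Y.Opens)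
    (hV : IsAffineOpen (p ⁻¹ᵁ U)) :
    (p.app U).hom.Flat ∧ (p.app U).hom.Finite ∧
    letI := (p.app U).hom.toAlgebra
    ∃ Φ : Γ(X, p ⁻¹ᵁ U) ⊗[Γ(Y, U)] Γ(X, p ⁻¹ᵁ U) →+* (G → Γ(X, p ⁻¹ᵁ U)),
      Function.Bijective Φ ∧ ∀ x y g, Φ (x ⊗ₜ y) g = x * (act hp U g⁻¹).hom y := by
  let := sectionsAction hp U
  let := (p.app U).hom.toAlgebra
  have : SMulCommClass G Γ(Y, U) Γ(X, p ⁻¹ᵁ U) := ⟨fun g a s => by
    change (act hp U g).hom ((p.app U).hom a * s) = (p.app U).hom a * (act hp U g).hom s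
    rw [map_mul, act_app]⟩
  have : Algebra.IsInvariant Γ(Y, U) Γ(X, p ⁻¹ᵁ U) G := ⟨fun s h => mem_range_of_act hp U s h⟩
  have hf := isFree_sections hp hfree U hV
  obtain ⟨hinj, hproj, hfin⟩ := GaloisRing.phi_injective_and_projective (A := Γ(Y, U)) hf (hp.injective U)
  exact ⟨Module.Flat.of_projective, hfin,
    (GaloisRing.phi Γ(Y, U) Γ(X, p ⁻¹ᵁ U) G).toRingHom, ⟨hinj, GaloisRing.phi_surjective hf⟩, fun _ _ _ => rfl⟩

theorem flat_of_free (hp : SGA1.IsQuot ρ p) (hfree : FreeGeom ρ) : Flat p := by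
  have := hp.affine
  refine IsZariskiLocalAtSource.of_openCover (P := @Flat)
    (X.openCoverOfIsOpenCover (fun U : Y.affineOpens => p ⁻¹ᵁ U.1)
      (TopologicalSpace.IsOpenCover.mk (by rw [← Scheme.Hom.preimage_iSup, iSup_affineOpens_eq_top]; rfl)))
    fun (U : Y.affineOpens) => ?_
  have hV : IsAffineOpen (p ⁻¹ᵁ U.1) := U.2.preimage p
  change Flat ((p ⁻¹ᵁ U.1).ι ≫ p)
  rw [← hV.isoSpec.hom_inv_id_assoc (p ⁻¹ᵁ U.1).ι, Category.assoc]
  change Flat (hV.isoSpec.hom ≫ hV.fromSpec ≫ p)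
  rw [← IsAffineOpen.SpecMap_appLE_fromSpec p U.2 hV le_rfl, Scheme.Hom.appLE_eq_app]
  have : Flat (Spec.map (p.app U.1)) := Flat.SpecMap_iff.mpr (free_ring_facts hp hfree U.1 hV).1
  infer_instance

/-- The graph map `∐ X ⟶ X ×_Y X`. -/
noncomputable def graphs (hp : SGA1.IsQuot ρ p) : (∐ fun _ : G => X) ⟶ pullback p p :=
  Sigma.desc fun g : G => pullback.lift (𝟙 X) (ρ g).hom ((Category.id_comp p).trans (hp.inv g).symm)

/-- A chart of `X ×_Y X` over an affine chart of `p`. -/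
theorem exists_chart (p : X ⟶ Y) {A B : Type u} [CommRing A] [CommRing B] [Algebra A B]
    (j : Spec (CommRingCat.of B) ⟶ X) [IsOpenImmersion j] (jY : Spec (CommRingCat.of A) ⟶ Y) [IsOpenImmersion jY]
    (hj : Spec.map (CommRingCat.ofHom (algebraMap A B)) ≫ jY = j ≫ p) :
    ∃ k : Spec (CommRingCat.of (B ⊗[A] B)) ⟶ pullback p p, IsOpenImmersion k ∧
      k ≫ pullback.fst p p = Spec.map (CommRingCat.ofHom Algebra.TensorProduct.includeLeftRingHom) ≫ j ∧
      k ≫ pullback.snd p p = Spec.map (CommRingCat.ofHom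
        (Algebra.TensorProduct.includeRight (R := A) (A := B) (B := B)).toRingHom) ≫ j ∧
      Set.range k = pullback.fst p p ⁻¹' Set.range j ∩ pullback.snd p p ⁻¹' Set.range j := by
  refine ⟨(pullbackSpecIso A B B).inv ≫ pullback.map _ _ p p j j jY hj hj, inferInstance, ?_, ?_, ?_⟩
  · simp only [pullback.map, Category.assoc, pullback.lift_fst, pullbackSpecIso_inv_fst_assoc]
  · simp only [pullback.map, Category.assoc, pullback.lift_snd]
    exact pullbackSpecIso_inv_snd_assoc A B B j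
  · rw [Scheme.Hom.comp_base, TopCat.coe_comp, Set.range_comp,
      Set.range_eq_univ.mpr (pullbackSpecIso A B B).inv.surjective, Set.image_univ, Scheme.Pullback.range_map]

/-- The decomposition of the spectrum of a ring isomorphic to `σ → B`. -/
theorem exists_sigma_chart {σ : Type u} [Finite σ] {B R : Type u} [CommRing B] [CommRing R]
    (Φ : R →+* (σ → B)) (hΦ : Function.Bijective Φ) :
    ∃ e : (∐ fun _ : σ => Spec (CommRingCat.of B)) ⟶ Spec (CommRingCat.of R), IsIso e ∧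
      ∀ g, Sigma.ι (fun _ : σ => Spec (CommRingCat.of B)) g ≫ e =
        Spec.map (CommRingCat.ofHom ((Pi.evalRingHom (fun _ : σ => B) g).comp Φ)) := by
  have : IsIso (CommRingCat.ofHom Φ) := (ConcreteCategory.isIso_iff_bijective _).mpr hΦ
  refine ⟨sigmaSpec (fun _ : σ => CommRingCat.of B) ≫ Spec.map (CommRingCat.ofHom Φ), inferInstance, fun g => ?_⟩
  rw [ι_sigmaSpec_assoc, ← Spec.map_comp]
  rfl

theorem isIso_graphs (hp : SGA1.IsQuot ρ p) (hfree : FreeGeom ρ) : IsIso (graphs hp) := by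
  have := hp.affine
  let U : Y.affineOpens → Y.Opens := fun U => U.1
  let W : Y.affineOpens → (pullback p p).Opens := fun U => (pullback.fst p p ≫ p) ⁻¹ᵁ U.1
  have hW : ⨆ U, W U = ⊤ := by
    rw [← Scheme.Hom.preimage_iSup, iSup_affineOpens_eq_top]; rfl
  change MorphismProperty.isomorphisms Scheme.{u} (graphs hp)
  rw [IsZariskiLocalAtTarget.iff_of_iSup_eq_top (P := MorphismProperty.isomorphisms Scheme.{u}) W hW]
  intro U
  have hU : IsAffineOpen U.1 := U.2
  have hV : IsAffineOpen (p ⁻¹ᵁ U.1) := hU.preimage p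
  obtain ⟨-, -, Φ, hΦ, hΦ'⟩ := free_ring_facts hp hfree U.1 hV
  algebraize [(p.app U.1).hom]
  let B := Γ(X, p ⁻¹ᵁ U.1)
  let A := Γ(Y, U.1)
  let j : Spec (CommRingCat.of B) ⟶ X := hV.fromSpec
  have hj : Spec.map (CommRingCat.ofHom (algebraMap A B)) ≫ hU.fromSpec = j ≫ p := by
    change Spec.map (p.app U.1) ≫ _ = _
    rw [← Scheme.Hom.appLE_eq_app]
    exact IsAffineOpen.SpecMap_appLE_fromSpec _ hU hV _
  obtain ⟨k, hkimm, hk1, hk2, hkr⟩ := exists_chart p (A := A) (B := B) j hU.fromSpec hj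
  have hk : Set.range k = W U := by
    rw [hkr, hV.range_fromSpec]
    ext z
    refine ⟨fun h => h.1, fun h => ⟨h, ?_⟩⟩
    change (pullback.snd p p ≫ p) z ∈ U.1
    rw [← pullback.condition]; exact h
  obtain ⟨e, heiso, he⟩ := exists_sigma_chart Φ hΦ
  let J : (∐ fun _ : G => Spec (CommRingCat.of B)) ⟶ ∐ fun _ : G => X :=
    Sigma.desc fun g : G => j ≫ Sigma.ι (fun _ : G => X) g
  have : IsOpenImmersion J := isOpenImmersion_sigmaDesc _ _ fun g h hgh => by
    simp only [Function.onFun]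
    refine Set.disjoint_left.mpr ?_
    rintro _ ⟨x, rfl⟩ ⟨y, hy⟩
    rw [Scheme.Hom.comp_apply, Scheme.Hom.comp_apply, sigmaι_eq_iff] at hy
    exact hgh (congrArg Sigma.fst hy).symm
  have hι : ∀ g, Sigma.ι (fun _ : G => Spec (CommRingCat.of B)) g ≫ J ≫ graphs hp =
      j ≫ pullback.lift (𝟙 X) (ρ g).hom ((Category.id_comp p).trans (hp.inv g).symm) := fun g => by
    rw [← Category.assoc, Sigma.ι_desc, Category.assoc, graphs, Sigma.ι_desc]
  have hγ1 : ∀ g, pullback.lift (𝟙 X) (ρ g).hom ((Category.id_comp p).trans (hp.inv g).symm) ≫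
      pullback.fst p p = 𝟙 X := fun g => pullback.lift_fst _ _ _
  have hγ2 : ∀ g, pullback.lift (𝟙 X) (ρ g).hom ((Category.id_comp p).trans (hp.inv g).symm) ≫
      pullback.snd p p = (ρ g).hom := fun g => pullback.lift_snd _ _ _
  have hJ : e ≫ k = J ≫ graphs hp := by
    refine Sigma.hom_ext _ _ fun g => pullback.hom_ext ?_ ?_
    · simp only [hι, Category.assoc, hγ1, hk1, Category.comp_id]
      rw [reassoc_of% he g, ← Spec.map_comp_assoc]
      refine (congrArg (fun φ => Spec.map φ ≫ j) (?_ : _ = 𝟙 (CommRingCat.of B))).trans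
        (Eq.trans (by rw [Spec.map_id, Category.id_comp]) ?_)
      swap
      · exact ((reassoc_of% hι g) _).trans ((congrArg (j ≫ ·) (hγ1 g)).trans (Category.comp_id j)) |>.symm
      exact CommRingCat.hom_ext (RingHom.ext fun x => (hΦ' x 1 g).trans (by rw [map_one, mul_one]; rfl))
    · simp only [hι, Category.assoc, hγ2, hk2]
      rw [reassoc_of% he g, ← Spec.map_comp_assoc]
      refine (congrArg (fun φ => Spec.map φ ≫ j) (?_ : _ = act hp U.1 g⁻¹)).trans
        ((fromSpec_act hp U.1 hV g⁻¹).trans (Eq.trans (by rw [inv_inv])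
          (((reassoc_of% hι g) _).trans (congrArg (j ≫ ·) (hγ2 g))).symm))
      exact CommRingCat.hom_ext (RingHom.ext fun x => (hΦ' 1 x g).trans (one_mul _))
  have hkW : k.opensRange = W U := TopologicalSpace.Opens.ext hk
  have hgr : ∀ g x, (pullback.fst p p ≫ p) (graphs hp (Sigma.ι (fun _ : G => X) g x)) = p x := by
    intro g x
    have : Sigma.ι (fun _ : G => X) g ≫ graphs hp ≫ pullback.fst p p ≫ p = p := by
      rw [graphs, Sigma.ι_desc_assoc, pullback.lift_fst_assoc, Category.id_comp]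
    exact congr($this x)
  have hpre : graphs hp ⁻¹ᵁ k.opensRange = J.opensRange := by
    refine TopologicalSpace.Opens.ext (Set.ext fun z => ⟨fun hz => ?_, ?_⟩)
    · obtain ⟨⟨g, x⟩, rfl⟩ := (sigmaMk (fun _ : G => X)).surjective z
      rw [sigmaMk_mk] at hz ⊢
      rw [hkW] at hz
      have hx : p x ∈ U.1 := hgr g x ▸ hz
      obtain ⟨y, hy⟩ : x ∈ Set.range j := hV.range_fromSpec.symm ▸ (hx : x ∈ p ⁻¹ᵁ U.1)
      refine ⟨Sigma.ι (fun _ : G => Spec (CommRingCat.of B)) g y, ?_⟩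
      exact (congr($(Sigma.ι_desc (fun g : G => j ≫ Sigma.ι (fun _ : G => X) g) g) y) :).trans (congrArg _ hy)
    · rintro ⟨w, rfl⟩
      exact ⟨e w, congr($hJ w)⟩
  have hpb := IsOpenImmersion.isPullback e J k (graphs hp) hJ.symm hpre
  rw [← hkW]
  refine ((MorphismProperty.isomorphisms Scheme.{u}).arrow_mk_iso_iff (morphismRestrictOpensRange _ k)).mpr ?_
  change IsIso (pullback.snd (graphs hp) k)
  rw [← hpb.flip.isoPullback_inv_snd]
  infer_instance

theorem etale_facts (hp : SGA1.IsQuot ρ p) (hfree : FreeGeom ρ) :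
    IsIso (graphs hp) ∧ Flat p ∧ Surjective p :=
  ⟨isIso_graphs hp hfree, flat_of_free hp hfree, ⟨surjective hp⟩⟩

end Groth.Agent.QuotSch
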