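import Groth.Agent.QuotSch.Basic
import Mathlib.Algebra.Polynomial.GroupRingAction
import Mathlib.AlgebraicGeometry.Morphisms.UniversallyInjective
import Mathlib.AlgebraicGeometry.Morphisms.Flat
import Mathlib.AlgebraicGeometry.Morphisms.Integral
import Mathlib.AlgebraicGeometry.AffineScheme
import Mathlib.FieldTheory.IsAlgClosed.Basic

/-!
# Geometric points of quotients by finite groups
-/

set_option backward.isDefEq.respectTransparency.types false

universe u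

open AlgebraicGeometry CategoryTheory CategoryTheory.Limits

namespace Groth.Agent.QuotSch

open Polynomial in
/-- Two homomorphisms into a domain agreeing on the invariants differ by a group element. -/
theorem exists_comp_eq {B Ω G : Type*} [CommRing B] [CommRing Ω] [IsDomain Ω] [Group G] [Finite G]
    [MulSemiringAction G B] (f f' : B →+* Ω)
    (h : ∀ b : B, (∀ g : G, g • b = b) → f b = f' b) : ∃ g : G, ∀ b, f' b = f (g • b) := by
  classical
  haveI := Fintype.ofFinite G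
  suffices H : ∀ β : B[X], ∃ g : G, β.map f' = (g • β).map f by
    by_contra! hcon
    choose b hb using hcon
    let e := Fintype.equivFin G
    obtain ⟨g, hg⟩ := H (∑ g : G, monomial (e g : ℕ) (b g))
    refine hb g ?_
    have h1 := congrArg (fun q => q.coeff (e g : ℕ)) hg
    simp only [coeff_map, coeff_smul, finsetSum_coeff, coeff_monomial] at h1
    rw [Finset.sum_eq_single g, if_pos rfl] at h1
    · exact h1
    · exact fun g' _ hg' => if_neg fun hc => hg' (e.injective (Fin.ext hc))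
    · simp
  intro β
  let Φ : B[X][X] := ∏ g : G, (X - C (g • β))
  have hfix : ∀ g : G, g • Φ = Φ := by
    intro g
    simp only [Φ, Finset.smul_prod', smul_sub, Polynomial.smul_X, Polynomial.smul_C, smul_smul]
    exact Fintype.prod_equiv (Equiv.mulLeft g) _ _ fun g' => rfl
  have hmap : Φ.map (mapRingHom f) = Φ.map (mapRingHom f') := by
    refine Polynomial.ext fun i => Polynomial.ext fun j => ?_
    simp only [coeff_map, coe_mapRingHom]
    refine h _ fun g => ?_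
    conv_rhs => rw [← hfix g]
    simp [coeff_smul]
  have h0 := congrArg (Polynomial.eval (β.map f')) hmap
  simp only [Φ, Polynomial.map_prod, Polynomial.map_sub, Polynomial.map_X, Polynomial.map_C,
    eval_prod, eval_sub, eval_X, eval_C, coe_mapRingHom] at h0
  rw [Finset.prod_eq_zero (s := Finset.univ) (i := (1 : G))
    (f := fun g : G => β.map f' - (g • β).map f') (Finset.mem_univ _) (by simp)] at h0
  obtain ⟨g, -, hg⟩ := Finset.prod_eq_zero_iff.1 h0
  exact ⟨g, sub_eq_zero.1 hg⟩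

variable {X Y : Scheme.{u}} {G : Type u} [Group G] {ρ : G →* Aut X} {p : X ⟶ Y}

/-- Geometric points with the same image in the quotient differ by a group element. -/
theorem exists_comp_eq_of_point [Finite G] (hp : SGA1.IsQuot ρ p) {Ω : Type u} [Field Ω]
    (a b : Spec (CommRingCat.of Ω) ⟶ X) (h : a ≫ p = b ≫ p) : ∃ g : G, b = a ≫ (ρ g).hom := by
  haveI := hp.affine
  obtain ⟨_, ⟨V, hV, rfl⟩, hVy, -⟩ := Y.isBasis_affineOpens.exists_subset_of_mem_open
    (show (a ≫ p) (IsLocalRing.closedPoint Ω) ∈ ((⊤ : Y.Opens) : Set Y) from trivial) isOpen_univ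
  have hU : IsAffineOpen (p ⁻¹ᵁ V) := hV.preimage p
  have hle : ∀ c : Spec (CommRingCat.of Ω) ⟶ X, c ≫ p = a ≫ p → ⊤ ≤ c ⁻¹ᵁ (p ⁻¹ᵁ V) := by
    intro c hc x _
    show p (c x) ∈ V
    rw [← Scheme.Hom.comp_apply, hc, Subsingleton.elim x (IsLocalRing.closedPoint Ω)]
    exact hVy
  have ha := hle a rfl
  have hb := hle b h.symm
  let ev : ∀ c : Spec (CommRingCat.of Ω) ⟶ X, ⊤ ≤ c ⁻¹ᵁ (p ⁻¹ᵁ V) → (Γ(X, p ⁻¹ᵁ V) →+* Ω) :=
    fun c hc => ((Scheme.ΓSpecIso (CommRingCat.of Ω)).hom.hom).comp (c.appLE (p ⁻¹ᵁ V) ⊤ hc).hom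
  letI := sectionsAction hp V
  obtain ⟨g, hg⟩ := exists_comp_eq (G := G) (ev a ha) (ev b hb) (fun s hs => by
    obtain ⟨t, rfl⟩ := mem_range_of_act hp V s (fun g => hs g)
    show (Scheme.ΓSpecIso _).hom.hom ((a.appLE _ ⊤ ha).hom ((p.app V).hom t)) =
      (Scheme.ΓSpecIso _).hom.hom ((b.appLE _ ⊤ hb).hom ((p.app V).hom t))
    congr 1
    rw [← CommRingCat.comp_apply, ← CommRingCat.comp_apply, Scheme.Hom.app_eq_appLE,
      Scheme.Hom.appLE_comp_appLE, Scheme.Hom.appLE_comp_appLE, appLE_congr_hom h])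
  refine ⟨g⁻¹, ?_⟩
  have hc : ⊤ ≤ (a ≫ (ρ g⁻¹).hom) ⁻¹ᵁ (p ⁻¹ᵁ V) := hle _ (by rw [Category.assoc, hp.inv])
  rw [← IsOpenImmersion.lift_fac (p ⁻¹ᵁ V).ι b (by
      rw [Scheme.Opens.range_ι]; rintro _ ⟨x, rfl⟩; exact hb trivial),
    ← IsOpenImmersion.lift_fac (p ⁻¹ᵁ V).ι (a ≫ (ρ g⁻¹).hom) (by
      rw [Scheme.Opens.range_ι]; rintro _ ⟨x, rfl⟩; exact hc trivial)]
  congr 1
  haveI : IsAffine (p ⁻¹ᵁ V).toScheme := hU
  refine ext_of_isAffine ?_
  rw [← cancel_mono (Scheme.ΓSpecIso (CommRingCat.of Ω)).hom, ← cancel_epi (p ⁻¹ᵁ V).topIso.inv]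
  ext s
  have key : ∀ (c : Spec (CommRingCat.of Ω) ⟶ X) (hc : ⊤ ≤ c ⁻¹ᵁ (p ⁻¹ᵁ V)) (hr),
      (p ⁻¹ᵁ V).topIso.inv ≫ (IsOpenImmersion.lift (p ⁻¹ᵁ V).ι c hr).appTop =
        c.appLE (p ⁻¹ᵁ V) ⊤ hc := by
    intro c hc hr
    have e := IsOpenImmersion.lift_fac (p ⁻¹ᵁ V).ι c hr
    rw [appLE_congr_hom e.symm (p ⁻¹ᵁ V) ⊤ hc]
    rw [← Scheme.Hom.appLE_comp_appLE _ _ _ ⊤ _ (by simp) (by simp)]
    simp [Scheme.Hom.app_eq_appLE, Scheme.Opens.topIso]
    rfl
  rw [← Category.assoc, ← Category.assoc, key b hb, key (a ≫ (ρ g⁻¹).hom) hc]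
  have h1 := hg s
  rw [show (a ≫ (ρ g⁻¹).hom).appLE (p ⁻¹ᵁ V) ⊤ hc =
    (ρ g⁻¹).hom.appLE _ _ (SGA1.preimage_le_of_inv ρ p hp.inv g⁻¹ V) ≫ a.appLE _ ⊤ ha from
    (Scheme.Hom.appLE_comp_appLE _ _ _ _ _ _ _).symm]
  exact h1

/-- Points over algebraically closed fields lift along integral surjections. -/
theorem exists_lift_of_isIntegralHom {W Z : Scheme.{u}} (q : W ⟶ Z) [IsIntegralHom q] [Surjective q]
    {Ω : Type u} [Field Ω] [IsAlgClosed Ω] (c : Spec (CommRingCat.of Ω) ⟶ Z) :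
    ∃ c' : Spec (CommRingCat.of Ω) ⟶ W, c' ≫ q = c := by
  let P := pullback c q
  let π : P ⟶ Spec (CommRingCat.of Ω) := pullback.fst c q
  haveI : IsIntegralHom π := MorphismProperty.pullback_fst (P := @IsIntegralHom) _ _ inferInstance
  haveI : Surjective π := MorphismProperty.pullback_fst (P := @Surjective) _ _ inferInstance
  haveI : IsAffine P := isAffine_of_isAffineHom π
  let φ : CommRingCat.of Ω ⟶ Γ(P, ⊤) := Spec.preimage (P.isoSpec.inv ≫ π)
  have hφ : Spec.map φ = P.isoSpec.inv ≫ π := Spec.map_preimage _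
  have hint : φ.hom.IsIntegral := by
    refine IsIntegralHom.SpecMap_iff.1 ?_
    rw [hφ]
    infer_instance
  haveI : Nonempty P := ⟨(Surjective.surj (f := π) (IsLocalRing.closedPoint Ω)).choose⟩
  haveI : Nontrivial Γ(P, ⊤) := by
    refine PrimeSpectrum.nonempty_iff_nontrivial.1 ?_
    exact ⟨P.isoSpec.hom (Classical.arbitrary P)⟩
  obtain ⟨m, hm⟩ := Ideal.exists_maximal Γ(P, ⊤)
  letI := Ideal.Quotient.field m
  let ψ : Ω →+* (Γ(P, ⊤) ⧸ m) := (Ideal.Quotient.mk m).comp φ.hom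
  letI : Algebra Ω (Γ(P, ⊤) ⧸ m) := ψ.toAlgebra
  haveI : Algebra.IsIntegral Ω (Γ(P, ⊤) ⧸ m) := ⟨fun x => by
    obtain ⟨x, rfl⟩ := Ideal.Quotient.mk_surjective x
    exact RingHom.IsIntegralElem.map (g := Ideal.Quotient.mk m) (hint x)⟩
  let e := RingEquiv.ofBijective (algebraMap Ω (Γ(P, ⊤) ⧸ m))
    IsAlgClosed.algebraMap_bijective_of_isIntegral
  let t : Γ(P, ⊤) ⟶ CommRingCat.of Ω :=
    CommRingCat.ofHom (e.symm.toRingHom.comp (Ideal.Quotient.mk m))
  have ht : φ ≫ t = 𝟙 _ := by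
    ext x
    exact e.symm_apply_apply x
  refine ⟨Spec.map t ≫ P.isoSpec.inv ≫ pullback.snd c q, ?_⟩
  rw [Category.assoc, Category.assoc, ← pullback.condition, ← Category.assoc P.isoSpec.inv, ← hφ,
    ← Category.assoc, ← Spec.map_comp, ht, Spec.map_id, Category.id_comp]

end Groth.Agent.QuotSch
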