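import Groth.Agent.QuotSch.Basic
import Mathlib.AlgebraicGeometry.Gluing
import Mathlib.AlgebraicGeometry.AffineScheme

/-!
# The universal property of quotients of schemes by finite groups
-/

set_option backward.isDefEq.respectTransparency.types false

universe u

open AlgebraicGeometry CategoryTheory CategoryTheory.Limits

namespace Groth.Agent.QuotSch

/-- A surjective morphism which is injective on all sections is an epimorphism of schemes. -/
theorem hom_ext_of_surjective_of_app_injective {A B Z : Scheme.{u}} (q : A ⟶ B)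
    (hs : Function.Surjective q.base) (hi : ∀ V : B.Opens, Function.Injective (q.app V).hom)
    {a b : B ⟶ Z} (e : q ≫ a = q ≫ b) : a = b := by
  have hpt : ∀ y, a.base y = b.base y := fun y => by
    obtain ⟨x, rfl⟩ := hs y
    exact congr($e x)
  have hbase : a.base = b.base := TopCat.hom_ext (ContinuousMap.ext hpt)
  refine Scheme.Hom.ext hbase fun U => ?_
  have hle : b ⁻¹ᵁ U ≤ a ⁻¹ᵁ U := fun y hy => (show a.base y ∈ U from (hpt y).symm ▸ hy)
  change a.app U ≫ B.presheaf.map _ = b.app U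
  trans a.appLE U (b ⁻¹ᵁ U) hle
  · rfl
  rw [← Scheme.Hom.appLE_eq_app]
  refine CommRingCat.hom_ext (RingHom.ext fun t => hi (b ⁻¹ᵁ U) ?_)
  rw [← Scheme.Hom.appLE_eq_app, ← CommRingCat.comp_apply, ← CommRingCat.comp_apply,
    Scheme.Hom.appLE_comp_appLE, Scheme.Hom.appLE_comp_appLE, appLE_congr_hom e]

variable {X Y Z : Scheme.{u}} {G : Type u} [Group G] [Finite G] {ρ : G →* Aut X} {p : X ⟶ Y}

theorem morphismRestrict_app_injective (hp : SGA1.IsQuot ρ p) (U : Y.Opens) (V : U.toScheme.Opens) :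
    Function.Injective ((p ∣_ U).app V).hom := by
  rw [morphismRestrict_app]
  intro s t h
  exact hp.injective (U.ι ''ᵁ V)
    ((ConcreteCategory.bijective_of_isIso _).1 h)

theorem morphismRestrict_surjective (hp : SGA1.IsQuot ρ p) (U : Y.Opens) :
    Function.Surjective (p ∣_ U).base := by
  intro y
  obtain ⟨x, hx⟩ := surjective hp y.1
  refine ⟨⟨x, show p.base x ∈ U from hx ▸ y.2⟩, Subtype.ext ?_⟩
  exact (congr($(morphismRestrict_ι p U) ⟨x, show p.base x ∈ U from hx ▸ y.2⟩)).trans hx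

/-- Two morphisms out of an open of `Y` agree if they agree after pulling back to `X`. -/
theorem hom_ext (hp : SGA1.IsQuot ρ p) {W : Scheme.{u}} (j : W ⟶ Y) [IsOpenImmersion j] {a b : W ⟶ Z}
    (h : ∀ (T : Scheme.{u}) (t : T ⟶ X) (w : T ⟶ W), t ≫ p = w ≫ j → w ≫ a = w ≫ b) : a = b := by
  rw [← cancel_epi j.isoOpensRange.inv]
  refine hom_ext_of_surjective_of_app_injective (p ∣_ j.opensRange) (morphismRestrict_surjective hp _)
    (morphismRestrict_app_injective hp _) ?_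
  have := h _ (p ⁻¹ᵁ j.opensRange).ι ((p ∣_ j.opensRange) ≫ j.isoOpensRange.inv) (by
    rw [Category.assoc, ← morphismRestrict_ι p j.opensRange]
    congr 1
    rw [Iso.eq_inv_comp]
    exact IsOpenImmersion.isoOfRangeEq_hom_fac _ _ _)
  simpa only [Category.assoc] using this

/-- The open of points of `Y` all of whose preimages map into `V`. -/
noncomputable def imageOpen (hp : SGA1.IsQuot ρ p) (h : X ⟶ Z) (V : Z.Opens) : Y.Opens :=
  ⟨(p.base '' ((h ⁻¹ᵁ V : X.Opens) : Set X)ᶜ)ᶜ,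
    (isClosedMap hp _ (h ⁻¹ᵁ V).isOpen.isClosed_compl).isOpen_compl⟩

theorem mem_imageOpen (hp : SGA1.IsQuot ρ p) {h : X ⟶ Z} (hh : ∀ g : G, (ρ g).hom ≫ h = h)
    (V : Z.Opens) (x : X) : p.base x ∈ imageOpen hp h V ↔ h.base x ∈ V := by
  constructor
  · intro hx
    by_contra hv
    exact hx ⟨x, hv, rfl⟩
  · rintro hx ⟨x', hv, e⟩
    obtain ⟨g, rfl⟩ := (map_eq_iff hp x' x).mp e
    exact hv (show h.base x' ∈ V from congr($(hh g) x') ▸ hx)

/-- The local factorization over an affine open of the target. -/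
theorem exists_local (hp : SGA1.IsQuot ρ p) {h : X ⟶ Z} (hh : ∀ g : G, (ρ g).hom ≫ h = h)
    (V : Z.Opens) (hV : IsAffineOpen V) :
    ∃ f : (imageOpen hp h V).toScheme ⟶ Z, ∀ (T : Scheme.{u}) (t : T ⟶ X) (w : T ⟶ imageOpen hp h V),
      t ≫ p = w ≫ (imageOpen hp h V).ι → w ≫ f = t ≫ h := by
  let U := imageOpen hp h V
  have hle : p ⁻¹ᵁ U ≤ h ⁻¹ᵁ V := fun x hx => (mem_imageOpen hp hh V x).mp hx
  have hmem : ∀ t, (h.appLE V (p ⁻¹ᵁ U) hle).hom t ∈ (p.app U).hom.range := fun t => by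
    refine (hp.range_iff U _).mpr fun g => ?_
    rw [← CommRingCat.comp_apply, Scheme.Hom.appLE_comp_appLE, appLE_congr_hom (hh g)]
  let e : Γ(Y, U) ≃+* (p.app U).hom.range :=
    RingEquiv.ofBijective (p.app U).hom.rangeRestrict
      ⟨fun a b hab => hp.injective U (congrArg Subtype.val hab), RingHom.rangeRestrict_surjective _⟩
  let φ : Γ(Z, V) ⟶ Γ(Y, U) :=
    CommRingCat.ofHom (e.symm.toRingHom.comp ((h.appLE V (p ⁻¹ᵁ U) hle).hom.codRestrict _ hmem))
  have hφ : φ ≫ p.app U = h.appLE V (p ⁻¹ᵁ U) hle := CommRingCat.hom_ext <| RingHom.ext fun t =>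
    congrArg Subtype.val (e.apply_symm_apply ((h.appLE V (p ⁻¹ᵁ U) hle).hom.codRestrict _ hmem t))
  refine ⟨U.toSpecΓ ≫ Spec.map φ ≫ hV.fromSpec, fun T t w htw => ?_⟩
  have key : (p ∣_ U) ≫ U.toSpecΓ ≫ Spec.map φ ≫ hV.fromSpec = (p ⁻¹ᵁ U).ι ≫ h := by
    rw [← Scheme.Hom.resLE_eq_morphismRestrict, ← Category.assoc, ← Scheme.Opens.toSpecΓ_SpecMap_appLE,
      Category.assoc, Scheme.Hom.appLE_eq_app, ← Spec.map_comp_assoc, hφ, ← Category.assoc,
      Scheme.Opens.toSpecΓ_SpecMap_appLE, Category.assoc, ← hV.isoSpec_hom, IsAffineOpen.fromSpec,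
      Iso.hom_inv_id_assoc, Scheme.Hom.resLE_comp_ι]
  obtain ⟨t', ht₁, ht₂⟩ := (isPullback_morphismRestrict p U).exists_lift w t htw.symm |> fun ⟨l, a, b⟩ =>
    (⟨l, a, b⟩ : ∃ l : T ⟶ _, l ≫ (p ∣_ U) = w ∧ l ≫ (p ⁻¹ᵁ U).ι = t)
  rw [← ht₁, Category.assoc, key, ← Category.assoc, ht₂]

theorem existsUnique_desc (hp : SGA1.IsQuot ρ p) (h : X ⟶ Z) (hh : ∀ g : G, (ρ g).hom ≫ h = h) :
    ∃! h' : Y ⟶ Z, p ≫ h' = h := by
  choose f hf using fun V : Z.affineOpens => exists_local hp hh V.1 V.2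
  let U : Z.affineOpens → Y.Opens := fun V => imageOpen hp h V.1
  have hcov : TopologicalSpace.IsOpenCover U := by
    refine TopologicalSpace.IsOpenCover.mk (top_le_iff.mp fun y _ => ?_)
    obtain ⟨x, rfl⟩ := surjective hp y
    obtain ⟨V, hV, hxV, -⟩ := exists_isAffineOpen_mem_and_subset (x := h.base x) (U := ⊤) trivial
    exact TopologicalSpace.Opens.mem_iSup.mpr ⟨⟨V, hV⟩, (mem_imageOpen hp hh V x).mpr hxV⟩
  let 𝒰 := Y.openCoverOfIsOpenCover U hcov
  have hglue : ∀ V V' : Z.affineOpens, pullback.fst (U V).ι (U V').ι ≫ f V = pullback.snd _ _ ≫ f V' := by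
    intro V V'
    refine hom_ext hp (pullback.fst (U V).ι (U V').ι ≫ (U V).ι) fun T t w htw => ?_
    rw [← Category.assoc, ← Category.assoc, hf V T t _ (by simpa using htw),
      hf V' T t _ (by rw [htw, pullback.condition, Category.assoc])]
  refine ⟨𝒰.glueMorphisms f hglue, ?_, fun h' hh' => ?_⟩
  · refine Scheme.Cover.hom_ext (𝒰.pullback₁ p) _ _ fun V => ?_
    change pullback.fst p (U V).ι ≫ p ≫ _ = pullback.fst p (U V).ι ≫ h
    rw [pullback.condition_assoc, ← hf V _ (pullback.fst p (U V).ι) (pullback.snd _ _) pullback.condition]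
    exact congrArg _ (𝒰.ι_glueMorphisms f hglue V)
  · refine Scheme.Cover.hom_ext 𝒰 _ _ fun V => ?_
    rw [𝒰.ι_glueMorphisms f hglue V]
    refine hom_ext hp (U V).ι fun T t w htw => ?_
    rw [hf V T t w htw, ← hh', ← Category.assoc t, htw, Category.assoc]
    rfl

end Groth.Agent.QuotSch
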